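import Mathlib

/-!
# Descent of integrality to a normal domain along a flat finite algebra
-/

universe u

open TensorProduct

namespace Groth.Agent.FinTorsor

variable {A K R : Type u} [CommRing A] [IsIntegrallyClosed A] [Field K] [Algebra A K] [IsFractionRing A K]
  [CommRing R] [Algebra A R] [Module.Flat A R]

/-- `r ⊗ k ↦ r ⊗ 1 ⊗ k`. -/
noncomputable def left13 (A K R : Type u) [CommRing A] [CommRing K] [Algebra A K] [CommRing R] [Algebra A R] :
    (R ⊗[A] K) →ₐ[A] (R ⊗[A] (R ⊗[A] K)) :=
  Algebra.TensorProduct.map (AlgHom.id A R) Algebra.TensorProduct.includeRight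

theorem algebraMap_tensor_injective [FaithfulSMul A K] :
    Function.Injective (Algebra.TensorProduct.includeLeft : R →ₐ[A] R ⊗[A] K) := by
  have h : Function.Injective ((Algebra.linearMap A K).lTensor R) :=
    Module.Flat.lTensor_preserves_injective_linearMap _ (FaithfulSMul.algebraMap_injective A K)
  intro x y e
  apply (TensorProduct.rid A R).symm.injective
  apply h
  simpa using e

/-- A subalgebra of `R ⊗ K`, integral over `A`, which is stable under the descent datum, is inside `R`. -/
theorem le_range (M : Subalgebra A (R ⊗[A] K))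
    (hR : ∀ r : R, r ⊗ₜ[A] (1 : K) ∈ M)
    (hint : ∀ x ∈ M, IsIntegral A x) [Nontrivial R]
    (hd : ∀ x ∈ M, left13 A K R x ∈ (Algebra.TensorProduct.map (AlgHom.id A R) M.val).range) :
    ∀ x ∈ M, x ∈ (Algebra.TensorProduct.includeLeft : R →ₐ[A] R ⊗[A] K).range := by
  haveI : FaithfulSMul A K := (faithfulSMul_iff_algebraMap_injective A K).2 (IsFractionRing.injective A K)
  haveI : Nontrivial (R ⊗[A] K) := (algebraMap_tensor_injective (A := A) (K := K) (R := R)).nontrivial
  let ι : K →ₐ[A] R ⊗[A] K := Algebra.TensorProduct.includeRight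
  have hι : Function.Injective ι := RingHom.injective ι.toRingHom
  intro x hx
  let δ : K →ₗ[A] (R ⊗[A] K) ⧸ Subalgebra.toSubmodule M := (Subalgebra.toSubmodule M).mkQ ∘ₗ ι.toLinearMap
  have h0 : δ.lTensor R x = 0 := by
    have e : ι.toLinearMap.lTensor R x = left13 A K R x := by
      induction x with
      | zero => simp
      | tmul r k => rfl
      | add a b ha hb =>
        rw [map_add, map_add]
        exact congrArg₂ (· + ·) (LinearMap.congr_fun (show ι.toLinearMap.lTensor R = (left13 A K R).toLinearMap by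
          ext; rfl) a) (LinearMap.congr_fun (show ι.toLinearMap.lTensor R = (left13 A K R).toLinearMap by
          ext; rfl) b)
    rw [LinearMap.lTensor_comp, LinearMap.comp_apply, e]
    obtain ⟨z, hz⟩ := (hd x hx)
    rw [← hz]
    clear hz
    change (Subalgebra.toSubmodule M).mkQ.lTensor R ((Algebra.TensorProduct.map (AlgHom.id A R) M.val) z) = 0
    induction z with
    | zero => simp
    | tmul r m =>
      change r ⊗ₜ[A] Submodule.Quotient.mk (m : R ⊗[A] K) = 0
      rw [(Submodule.Quotient.mk_eq_zero _).2 m.2, tmul_zero]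
    | add a b ha hb =>
      rw [map_add, map_add]
      exact (congrArg₂ (· + ·) ha hb).trans (add_zero _)
  obtain ⟨y, hy⟩ := (Module.Flat.lTensor_exact R (LinearMap.exact_subtype_ker_map δ) x).1 h0
  rw [← hy]
  clear h0 hy hx
  induction y with
  | zero => simp
  | tmul r k =>
    have hk : ι (k : K) ∈ M := (Submodule.Quotient.mk_eq_zero _).1 k.2
    obtain ⟨a, ha⟩ := IsIntegrallyClosed.isIntegral_iff.1 ((isIntegral_algHom_iff ι hι).1 (hint _ hk))
    refine ⟨a • r, ?_⟩
    change (a • r) ⊗ₜ[A] (1 : K) = r ⊗ₜ[A] (k : K)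
    rw [TensorProduct.smul_tmul, ← ha, Algebra.algebraMap_eq_smul_one]
  | add a b ha hb => rw [map_add]; exact add_mem ha hb

end Groth.Agent.FinTorsor
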