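import Groth.Prelude.Def_ActBC
import Groth.Agent.SchTorsor.Basic
import Mathlib.AlgebraicGeometry.Morphisms.SchemeTheoreticallyDominant
import Mathlib.AlgebraicGeometry.FunctionField
import Mathlib.AlgebraicGeometry.Morphisms.Separated

/-!
# Equivariant isomorphisms over an open, on points over the generic point
-/

set_option backward.isDefEq.respectTransparency false
set_option backward.isDefEq.respectTransparency.types false

universe u

open CategoryTheory CategoryTheory.Limits MonoidalCategory CartesianMonoidalCategory AlgebraicGeometry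
open scoped MonObj

namespace Groth.Agent.FinTorsor

variable {X : Scheme.{u}}

/-- Lifts to the open subscheme. -/
noncomputable def intoU (U : X.Opens) (Z : Over X) (hZ : Set.range Z.hom ⊆ U) : Over U.toScheme :=
  Over.mk (IsOpenImmersion.lift U.ι Z.hom (by rwa [Scheme.Opens.range_ι]))

theorem intoU_hom (U : X.Opens) (Z : Over X) (hZ : Set.range Z.hom ⊆ U) :
    (intoU U Z hZ).hom ≫ U.ι = Z.hom := IsOpenImmersion.lift_fac _ _ _

/-- The canonical identification. -/
noncomputable def toU (U : X.Opens) (Z : Over X) (hZ : Set.range Z.hom ⊆ U) :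
    (Over.map U.ι).obj (intoU U Z hZ) ≅ Z :=
  Over.isoMk (Iso.refl _) (by
    change 𝟙 Z.left ≫ Z.hom = (intoU U Z hZ).hom ≫ U.ι
    rw [Category.id_comp, intoU_hom])

section Transfer

variable {U : X.Opens} {G P Q : Over X} [GrpObj G] {a : AlgGrp.Action G P} {b : AlgGrp.Action G Q}
  (e : NonAbH1.EquivIso (a.bc U.ι) (b.bc U.ι))

/-- Transport of a point. -/
noncomputable def tr {Z : Over X} (hZ : Set.range Z.hom ⊆ U) (x : Z ⟶ P) : Z ⟶ Q :=
  (toU U Z hZ).inv ≫
    ((Over.mapPullbackAdj U.ι).homEquiv _ _).symm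
      ((Over.mapPullbackAdj U.ι).homEquiv _ _ ((toU U Z hZ).hom ≫ x) ≫ e.iso.hom)

theorem tr_nat {Z Z' : Over X} (hZ : Set.range Z.hom ⊆ U) (hZ' : Set.range Z'.hom ⊆ U) (h : Z' ⟶ Z) (x : Z ⟶ P) :
    h ≫ tr e hZ x = tr e hZ' (h ≫ x) := by
  let h' : intoU U Z' hZ' ⟶ intoU U Z hZ := Over.homMk h.left (by
    rw [← cancel_mono U.ι, Category.assoc, intoU_hom, intoU_hom, Over.w h])
  have e1 : (toU U Z' hZ').hom ≫ h = (Over.map U.ι).map h' ≫ (toU U Z hZ).hom := by
    ext
    simp [toU, h']
  have e2 : h ≫ (toU U Z hZ).inv = (toU U Z' hZ').inv ≫ (Over.map U.ι).map h' := by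
    rw [← Iso.cancel_iso_hom_left (toU U Z' hZ'), reassoc_of% e1, Iso.hom_inv_id, Category.comp_id,
      Iso.hom_inv_id_assoc]
  unfold tr
  rw [reassoc_of% e2, ← Adjunction.homEquiv_naturality_left_symm, ← Category.assoc,
    ← Adjunction.homEquiv_naturality_left, ← Category.assoc, ← e1, Category.assoc]

theorem adj_lift {Y : Over U.toScheme} (g : (Over.map U.ι).obj Y ⟶ G) (x : (Over.map U.ι).obj Y ⟶ P) :
    lift ((Over.mapPullbackAdj U.ι).homEquiv _ _ g) ((Over.mapPullbackAdj U.ι).homEquiv _ _ x) ≫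
        Functor.LaxMonoidal.μ (Over.pullback U.ι) G P =
      (Over.mapPullbackAdj U.ι).homEquiv _ _ (lift g x) := by
  rw [← cancel_mono (Functor.OplaxMonoidal.δ (Over.pullback U.ι) G P)]
  apply CartesianMonoidalCategory.hom_ext
  · rw [Category.assoc, Category.assoc, Category.assoc, Functor.OplaxMonoidal.δ_fst,
      Functor.Monoidal.μ_fst, lift_fst, ← Adjunction.homEquiv_naturality_right, lift_fst]
  · rw [Category.assoc, Category.assoc, Category.assoc, Functor.OplaxMonoidal.δ_snd,
      Functor.Monoidal.μ_snd, lift_snd, ← Adjunction.homEquiv_naturality_right, lift_snd]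

theorem tr_act {Z : Over X} (hZ : Set.range Z.hom ⊆ U) (g : Z ⟶ G) (x : Z ⟶ P) :
    tr e hZ (lift g x ≫ a.act) = lift g (tr e hZ x) ≫ b.act := by
  unfold tr
  rw [← Category.assoc, comp_lift, Adjunction.homEquiv_naturality_right, ← adj_lift, Category.assoc,
    Category.assoc, ← Category.assoc (Functor.LaxMonoidal.μ (Over.pullback U.ι) G P), ← AlgGrp.Action.bc_act,
    e.comm, lift_whiskerLeft_assoc]
  obtain ⟨y, hy⟩ : ∃ y, ((Over.mapPullbackAdj U.ι).homEquiv _ _ ((toU U Z hZ).hom ≫ x) ≫ e.iso.hom) =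
      (Over.mapPullbackAdj U.ι).homEquiv _ _ y := ⟨_, (Equiv.apply_symm_apply _ _).symm⟩
  rw [hy, AlgGrp.Action.bc_act, ← Category.assoc, adj_lift, ← Adjunction.homEquiv_naturality_right,
    Equiv.symm_apply_apply, Equiv.symm_apply_apply, ← Category.assoc, comp_lift, Iso.inv_hom_id_assoc]

end Transfer

section Dense

variable [IsIntegral X]

/-- The generic fibre of an `X`-scheme. -/
noncomputable def gen (Y : Over X) : Over X :=
  Over.mk (pullback.fst Y.hom (X.fromSpecStalk (genericPoint X)) ≫ Y.hom)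

/-- Its inclusion. -/
noncomputable def genι (Y : Over X) : gen Y ⟶ Y :=
  Over.homMk (pullback.fst Y.hom (X.fromSpecStalk (genericPoint X))) rfl

/-- Being over the generic point. -/
def InK (Z : Over X) : Prop :=
  ∃ k : Z.left ⟶ Spec X.functionField, k ≫ X.fromSpecStalk (genericPoint X) = Z.hom

theorem inK_gen (Y : Over X) : InK (gen Y) :=
  ⟨pullback.snd _ _, pullback.condition.symm⟩

theorem InK.of_hom {Z Z' : Over X} (h : InK Z) (f : Z' ⟶ Z) : InK Z' := by
  obtain ⟨k, hk⟩ := h
  exact ⟨f.left ≫ k, by rw [Category.assoc, hk, Over.w f]⟩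

theorem InK.range_subset {Z : Over X} (h : InK Z) {U : X.Opens} (hU : Nonempty U) : Set.range Z.hom ⊆ U := by
  obtain ⟨k, hk⟩ := h
  obtain ⟨⟨x, hx⟩⟩ := hU
  rintro _ ⟨z, rfl⟩
  rw [← hk, Scheme.Hom.comp_apply]
  have hz : X.fromSpecStalk (genericPoint X) (k z) ⤳ genericPoint X :=
    Scheme.range_fromSpecStalk.le ⟨k z, rfl⟩
  exact hz.mem_open U.2 (((genericPoint_spec X).mem_open_set_iff U.2).mpr ⟨x, trivial, hx⟩)

theorem hom_ext_gen {Y T : Over X} [Flat Y.hom] [IsSeparated T.hom] {m m' : Y ⟶ T}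
    (h : genι Y ≫ m = genι Y ≫ m') : m = m' := by
  haveI : IsDominant (X.fromSpecStalk (genericPoint X)) := by
    refine ⟨dense_iff_closure_eq.2 (Set.eq_univ_of_univ_subset ?_)⟩
    rw [← (genericPoint_spec X).def]
    refine closure_mono (Set.singleton_subset_iff.2 ?_)
    rw [Scheme.range_fromSpecStalk]
    exact specializes_rfl
  haveI := IsSchemeTheoreticallyDominant.of_isDominant (X.fromSpecStalk (genericPoint X))
  let z : pullback Y.hom (X.fromSpecStalk (genericPoint X)) ⟶ Y.left := pullback.fst _ _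
  have hz : z ≫ m.left = z ≫ m'.left := congrArg CommaMorphism.left h
  let p : Y.left ⟶ pullback T.hom T.hom := pullback.lift m.left m'.left (by rw [Over.w m, Over.w m'])
  let q := pullback.fst p (pullback.diagonal T.hom)
  let zq : pullback Y.hom (X.fromSpecStalk (genericPoint X)) ⟶ pullback p (pullback.diagonal T.hom) :=
    pullback.lift z (z ≫ m.left) (by
      apply pullback.hom_ext
      · simp [p]
      · simp [p, hz])
  have hker : q.ker ≤ (𝟙 Y.left : Y.left ⟶ Y.left).ker := by
    have h1 : q.ker ≤ z.ker := by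
      have := zq.le_ker_comp q
      rwa [pullback.lift_fst] at this
    rw [show z.ker = ⊥ from Scheme.Hom.ker_eq_bot z] at h1
    exact h1.trans bot_le
  have hs : IsClosedImmersion.lift q (𝟙 Y.left) hker ≫ q = 𝟙 _ := IsClosedImmersion.lift_fac _ _ _
  have hc := congrArg (IsClosedImmersion.lift q (𝟙 Y.left) hker ≫ ·) (pullback.condition (f := p) (g := pullback.diagonal T.hom))
  rw [← Category.assoc, hs, Category.id_comp] at hc
  ext
  have e1 := congrArg (· ≫ pullback.fst T.hom T.hom) hc
  have e2 := congrArg (· ≫ pullback.snd T.hom T.hom) hc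
  simp only [p, Category.assoc, pullback.lift_fst, pullback.lift_snd, pullback.diagonal_fst, pullback.diagonal_snd,
    Category.comp_id] at e1 e2
  exact e1.trans e2.symm

end Dense

end Groth.Agent.FinTorsor
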