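import Mathlib.AlgebraicGeometry.AffineScheme
import Mathlib.AlgebraicGeometry.Morphisms.Affine
import Mathlib.CategoryTheory.Monoidal.Cartesian.Over
import Mathlib.RingTheory.TensorProduct.Basic

/-!
# Points of an affine morphism over an affine open of the base
-/

universe u

set_option backward.isDefEq.respectTransparency false
set_option backward.isDefEq.respectTransparency.types false

open CategoryTheory AlgebraicGeometry

namespace Groth.Agent.FinTorsor

variable {X : Scheme.{u}} (W : X.affineOpens)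

/-- `Spec C` over `X` through the affine open `W`. -/
noncomputable def Sp (C : Type u) [CommRing C] [Algebra Γ(X, W.1) C] : Over X :=
  Over.mk (Spec.map (CommRingCat.ofHom (algebraMap Γ(X, W.1) C)) ≫ W.2.fromSpec)

variable {W} {C D : Type u} [CommRing C] [Algebra Γ(X, W.1) C] [CommRing D] [Algebra Γ(X, W.1) D]

/-- The morphism induced by an algebra map. -/
noncomputable def spMap (φ : C →ₐ[Γ(X, W.1)] D) : Sp W D ⟶ Sp W C :=
  Over.homMk (Spec.map (CommRingCat.ofHom (φ : C →+* D))) (by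
    simp only [Sp, Over.mk_hom]
    rw [← Category.assoc, ← Spec.map_comp, ← CommRingCat.ofHom_comp, φ.comp_algebraMap])

@[reassoc]
theorem spMap_comp {E : Type u} [CommRing E] [Algebra Γ(X, W.1) E] (φ : C →ₐ[Γ(X, W.1)] D)
    (ψ : D →ₐ[Γ(X, W.1)] E) : spMap (ψ.comp φ) = spMap ψ ≫ spMap φ := by
  ext
  change Spec.map (CommRingCat.ofHom ((ψ : D →+* E).comp (φ : C →+* D))) = _
  rw [CommRingCat.ofHom_comp, Spec.map_comp]
  rfl

variable (G : Over X)

/-- Sections of `G` over the preimage of `W`, as an algebra. -/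
noncomputable def secAlg : Algebra Γ(X, W.1) Γ(G.left, G.hom ⁻¹ᵁ W.1) := (G.hom.app W.1).hom.toAlgebra

attribute [local instance] secAlg

variable {G} [IsAffineHom G.hom]

/-- The morphism of an algebra map out of the sections. -/
noncomputable def toPt (ρ : Γ(G.left, G.hom ⁻¹ᵁ W.1) →ₐ[Γ(X, W.1)] C) : Sp W C ⟶ G :=
  Over.homMk (Spec.map (CommRingCat.ofHom ρ.toRingHom) ≫ (W.2.preimage G.hom).fromSpec) (by
    simp only [Sp, Over.mk_hom]
    rw [Category.assoc, ← IsAffineOpen.SpecMap_appLE_fromSpec G.hom W.2 (W.2.preimage G.hom) le_rfl,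
      ← Category.assoc, ← Spec.map_comp, ← Scheme.Hom.app_eq_appLE]
    congr 2
    ext a
    exact ρ.commutes a)

theorem toPt_comp (ρ : Γ(G.left, G.hom ⁻¹ᵁ W.1) →ₐ[Γ(X, W.1)] C) (φ : C →ₐ[Γ(X, W.1)] D) :
    spMap φ ≫ toPt ρ = toPt (φ.comp ρ) := by
  ext
  change Spec.map (CommRingCat.ofHom (φ : C →+* D)) ≫ Spec.map (CommRingCat.ofHom ρ.toRingHom) ≫ _ =
    Spec.map (CommRingCat.ofHom ((φ : C →+* D).comp ρ.toRingHom)) ≫ _
  rw [CommRingCat.ofHom_comp, Spec.map_comp, Category.assoc]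

theorem exists_toPt (m : Sp W C ⟶ G) : ∃ ρ, toPt ρ = m := by
  have hV := W.2.preimage G.hom
  have hm : m.left ≫ G.hom = Spec.map (CommRingCat.ofHom (algebraMap Γ(X, W.1) C)) ≫ W.2.fromSpec := Over.w m
  have hrange : Set.range m.left ⊆ Set.range hV.fromSpec := by
    rw [hV.range_fromSpec]
    rintro _ ⟨z, rfl⟩
    show G.hom (m.left z) ∈ W.1
    rw [← Scheme.Hom.comp_apply, hm, Scheme.Hom.comp_apply]
    exact W.2.range_fromSpec.le ⟨_, rfl⟩
  let l : Spec (CommRingCat.of C) ⟶ Spec Γ(G.left, G.hom ⁻¹ᵁ W.1) := IsOpenImmersion.lift hV.fromSpec m.left hrange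
  have hl : l ≫ hV.fromSpec = m.left := IsOpenImmersion.lift_fac _ _ _
  have hA : G.hom.app W.1 ≫ Spec.preimage l = CommRingCat.ofHom (algebraMap Γ(X, W.1) C) := by
    apply Spec.map_injective
    rw [Spec.map_comp, Spec.map_preimage, ← cancel_mono W.2.fromSpec, Category.assoc, Scheme.Hom.app_eq_appLE,
      IsAffineOpen.SpecMap_appLE_fromSpec G.hom W.2 hV le_rfl, ← Category.assoc, hl, hm]
  refine ⟨⟨(Spec.preimage l).hom, fun a => congr($(hA) a)⟩, ?_⟩
  ext
  change Spec.map (CommRingCat.ofHom (Spec.preimage l).hom) ≫ _ = m.left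
  rw [CommRingCat.ofHom_hom, Spec.map_preimage, hl]

theorem toPt_injective {ρ ρ' : Γ(G.left, G.hom ⁻¹ᵁ W.1) →ₐ[Γ(X, W.1)] C} (h : toPt ρ = toPt ρ') : ρ = ρ' := by
  have h' := congrArg CommaMorphism.left h
  change Spec.map (CommRingCat.ofHom ρ.toRingHom) ≫ _ = Spec.map (CommRingCat.ofHom ρ'.toRingHom) ≫ _ at h'
  rw [cancel_mono] at h'
  exact AlgHom.coe_ringHom_injective (congrArg CommRingCat.Hom.hom (Spec.map_injective h'))

end Groth.Agent.FinTorsor
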