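import Groth.Agent.FinTorsor.Algebra
import Groth.Agent.FinTorsor.Points
import Mathlib.AlgebraicGeometry.Morphisms.Finite
import Mathlib.CategoryTheory.Monoidal.Cartesian.Grp

/-!
# Extension of a twisted point of a finite group from the generic fibre
-/

set_option backward.isDefEq.respectTransparency false
set_option backward.isDefEq.respectTransparency.types false
set_option maxHeartbeats 800000

universe u

open CategoryTheory MonoidalCategory CartesianMonoidalCategory AlgebraicGeometry TensorProduct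
open scoped MonObj

namespace Groth.Agent.FinTorsor

attribute [local instance] secAlg

variable {X : Scheme.{u}} (W : X.affineOpens) [IsIntegrallyClosed Γ(X, W.1)]
  {G : Over X} [GrpObj G] [IsFinite G.hom]
  (K R : Type u) [Field K] [Algebra Γ(X, W.1) K] [IsFractionRing Γ(X, W.1) K]
  [CommRing R] [Algebra Γ(X, W.1) R] [Module.Flat Γ(X, W.1) R] [Module.Finite Γ(X, W.1) R] [Nontrivial R]
  {T : Over X} (t : Sp W R ⟶ T)

/-- A point over the generic fibre obeying the descent relation extends. -/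
theorem exists_extend (g : Sp W (R ⊗[Γ(X, W.1)] K) ⟶ G) (u v : T ⊗ T ⟶ G)
    (hrel : spMap (left13 Γ(X, W.1) K R) ≫ g =
      (CartesianMonoidalCategory.lift (spMap (C := R) Algebra.TensorProduct.includeLeft ≫ t)
          (spMap (C := R ⊗[Γ(X, W.1)] K) Algebra.TensorProduct.includeRight ≫
            spMap (C := R) Algebra.TensorProduct.includeLeft ≫ t) ≫ u) *
        (spMap (D := R ⊗[Γ(X, W.1)] (R ⊗[Γ(X, W.1)] K)) Algebra.TensorProduct.includeRight ≫ g) *
        (CartesianMonoidalCategory.lift (spMap (C := R) Algebra.TensorProduct.includeLeft ≫ t)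
          (spMap (C := R ⊗[Γ(X, W.1)] K) Algebra.TensorProduct.includeRight ≫
            spMap (C := R) Algebra.TensorProduct.includeLeft ≫ t) ≫ v)⁻¹) :
    ∃ m : Sp W R ⟶ G, spMap (C := R) (Algebra.TensorProduct.includeLeft (S := Γ(X, W.1)) (B := K)) ≫ m = g := by
  haveI : Module.Finite Γ(X, W.1) Γ(G.left, G.hom ⁻¹ᵁ W.1) := IsFinite.finite_app (f := G.hom) W.1 W.2
  obtain ⟨ρ, rfl⟩ := exists_toPt g
  let P := Algebra.TensorProduct.productMap
    (Algebra.TensorProduct.includeLeft (R := Γ(X, W.1)) (S := Γ(X, W.1)) (A := R) (B := K)) ρ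
  let M := P.range
  have hRM : ∀ r : R, r ⊗ₜ[Γ(X, W.1)] (1 : K) ∈ M := fun r => ⟨r ⊗ₜ 1, by simp [P]⟩
  have hBM : ∀ b, ρ b ∈ M := fun b => ⟨1 ⊗ₜ b, by simp [P, ← Algebra.TensorProduct.one_def]⟩
  let inc : R →ₐ[Γ(X, W.1)] M := Algebra.TensorProduct.includeLeft.codRestrict M hRM
  let ρ' := ρ.codRestrict M hBM
  let a₁ := spMap (W := W) (Algebra.TensorProduct.includeLeft : R →ₐ[Γ(X, W.1)] R ⊗[Γ(X, W.1)] M) ≫ t
  let i₂ := spMap (W := W) (Algebra.TensorProduct.includeRight : M →ₐ[Γ(X, W.1)] R ⊗[Γ(X, W.1)] M)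
  let a₂ := i₂ ≫ spMap (W := W) inc ≫ t
  obtain ⟨θ, hθ⟩ := exists_toPt ((CartesianMonoidalCategory.lift a₁ a₂ ≫ u) * (i₂ ≫ toPt ρ') * (CartesianMonoidalCategory.lift a₁ a₂ ≫ v)⁻¹)
  let φ := Algebra.TensorProduct.map (AlgHom.id Γ(X, W.1) R) M.val
  have key : φ.comp θ = (left13 Γ(X, W.1) K R).comp ρ := by
    apply toPt_injective
    rw [← toPt_comp, ← toPt_comp, hθ, hrel]
    simp only [MonObj.comp_mul, GrpObj.comp_inv, comp_lift_assoc, a₁, a₂, i₂, ← spMap_comp_assoc, toPt_comp]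
    have e1 : φ.comp Algebra.TensorProduct.includeLeft =
        (Algebra.TensorProduct.includeLeft : R →ₐ[Γ(X, W.1)] R ⊗[Γ(X, W.1)] (R ⊗[Γ(X, W.1)] K)) := by
      ext r; simp [φ]
    have e2 : φ.comp Algebra.TensorProduct.includeRight =
        (Algebra.TensorProduct.includeRight : R ⊗[Γ(X, W.1)] K →ₐ[Γ(X, W.1)] _).comp M.val := by
      ext m; simp [φ]
    have e3 : M.val.comp ρ' = ρ := AlgHom.val_comp_codRestrict _ _ _
    have e4 : M.val.comp inc = Algebra.TensorProduct.includeLeft := AlgHom.val_comp_codRestrict _ _ _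
    rw [e1]
    simp only [← AlgHom.comp_assoc, e2]
    simp only [AlgHom.comp_assoc, e3, e4]
  have hint : ∀ x ∈ M, IsIntegral Γ(X, W.1) x := by
    rintro _ ⟨z, rfl⟩
    exact (IsIntegral.of_finite _ z).map P
  have hd : ∀ x ∈ M, left13 Γ(X, W.1) K R x ∈ φ.range := by
    rintro _ ⟨z, rfl⟩
    change left13 Γ(X, W.1) K R (P z) ∈ φ.range
    induction z with
    | zero => simp
    | tmul r b =>
      rw [show P (r ⊗ₜ b) = r ⊗ₜ[Γ(X, W.1)] (1 : K) * ρ b from Algebra.TensorProduct.productMap_apply_tmul _ _ _ _,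
        map_mul]
      refine mul_mem ⟨r ⊗ₜ 1, ?_⟩ ⟨θ b, AlgHom.congr_fun key b⟩
      simp [φ, left13, Algebra.TensorProduct.one_def]
    | add a b ha hb => rw [map_add, map_add]; exact add_mem ha hb
  have hmem := le_range M hRM hint hd
  choose σ hσ using fun b => hmem (ρ b) (hBM b)
  haveI : FaithfulSMul Γ(X, W.1) K :=
    (faithfulSMul_iff_algebraMap_injective _ K).2 (IsFractionRing.injective _ K)
  have hinj := algebraMap_tensor_injective (A := Γ(X, W.1)) (K := K) (R := R)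
  let e := AlgEquiv.ofInjective _ hinj
  refine ⟨toPt (e.symm.toAlgHom.comp (ρ.codRestrict _ fun b => hmem (ρ b) (hBM b))), ?_⟩
  rw [toPt_comp]
  congr 1
  ext b
  exact congrArg Subtype.val (e.apply_symm_apply _)

end Groth.Agent.FinTorsor
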