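import Groth.Agent.FinTorsor.Generic
import Groth.Agent.FinTorsor.Compare
import Groth.Agent.SchTorsor.Props
import Groth.Agent.EtFound.Descent
import Groth.Agent.S9821
import Mathlib.AlgebraicGeometry.Sites.Fpqc
import Mathlib.Algebra.Category.Ring.Constructions

/-!
# Torsors under finite flat groups over a normal base are determined on a dense open
-/

set_option backward.isDefEq.respectTransparency false
set_option backward.isDefEq.respectTransparency.types false
set_option maxHeartbeats 1000000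

universe u

open CategoryTheory CategoryTheory.Limits MonoidalCategory CartesianMonoidalCategory AlgebraicGeometry TensorProduct
open scoped MonObj

namespace Groth.Agent.FinTorsor

attribute [local instance] secAlg

variable {X : Scheme.{u}}

theorem finite_flat_torsor {G P : Over X} [GrpObj G] [IsFinite G.hom] [Flat G.hom] {a : AlgGrp.Action G P}
    (ha : NonAbH1.IsTorsorFor Scheme.fpqcPrecoverage a) :
    IsFinite P.hom ∧ Flat P.hom ∧ Surjective P.hom := by
  have := EtFound.fpqc_isFinite.{u}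
  exact ⟨SchTorsor.torsor_property @IsFinite ha inferInstance, SchTorsor.torsor_property @Flat ha inferInstance,
    SchTorsor.surjective_hom ha⟩

section Factor

variable [IsIntegral X] (W : X.affineOpens) [Nonempty W.1]

/-- The generic point through the affine open. -/
theorem sp_functionField :
    (Sp W X.functionField).hom = X.fromSpecStalk (genericPoint X) := by
  rw [← W.2.fromSpecStalk_eq_fromSpecStalk (((genericPoint_spec X).mem_open_set_iff W.1.2).mpr
    (by simpa using (inferInstance : Nonempty W.1)))]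
  rfl

theorem inK_sp {C : Type u} [CommRing C] [Algebra Γ(X, W.1) C] (f : X.functionField →ₐ[Γ(X, W.1)] C) :
    InK (Sp W C) :=
  InK.of_hom ⟨𝟙 _, (Category.id_comp _).trans (sp_functionField W).symm⟩ (spMap f)

theorem exists_factor {R : Type u} [CommRing R] [Algebra Γ(X, W.1) R] {Z : Over X} (hZ : InK Z) (z : Z ⟶ Sp W R) :
    ∃ z' : Z ⟶ Sp W (R ⊗[Γ(X, W.1)] X.functionField),
      z' ≫ spMap (C := R) (Algebra.TensorProduct.includeLeft (S := Γ(X, W.1)) (B := X.functionField)) = z := by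
  obtain ⟨k, hk⟩ := hZ
  have H := isPullback_SpecMap_of_isPushout _ _ _ _
    (CommRingCat.isPushout_tensorProduct Γ(X, W.1) R X.functionField)
  have hw : z.left ≫ Spec.map (CommRingCat.ofHom (algebraMap Γ(X, W.1) R)) =
      k ≫ Spec.map (CommRingCat.ofHom (algebraMap Γ(X, W.1) X.functionField)) := by
    rw [← cancel_mono W.2.fromSpec, Category.assoc, Category.assoc]
    exact (Over.w z).trans (hk.symm.trans (congrArg (k ≫ ·) (sp_functionField W).symm))
  refine ⟨Over.homMk (H.lift z.left k hw) ?_, ?_⟩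
  · have e : (Sp W (R ⊗[Γ(X, W.1)] X.functionField)).hom =
        (spMap (C := R) (Algebra.TensorProduct.includeLeft (S := Γ(X, W.1)) (B := X.functionField))).left ≫
          (Sp W R).hom := (Over.w _).symm
    rw [e, ← Category.assoc]
    refine (congrArg (· ≫ (Sp W R).hom) ?_).trans (Over.w z)
    exact H.lift_fst z.left k hw
  · ext
    exact H.lift_fst z.left k hw

end Factor

section Main

variable [IsIntegral X] {U : X.Opens} [Nonempty U] {G P Q : Over X} [GrpObj G]
  {a : AlgGrp.Action G P} {b : AlgGrp.Action G Q} (e : NonAbH1.EquivIso (a.bc U.ι) (b.bc U.ι))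

/-- The transport on points over the generic point. -/
noncomputable def trK {Z : Over X} (h : InK Z) (x : Z ⟶ P) : Z ⟶ Q := tr e (h.range_subset inferInstance) x

theorem trK_nat {Z Z' : Over X} (h : InK Z) (h' : InK Z') (f : Z' ⟶ Z) (x : Z ⟶ P) :
    f ≫ trK e h x = trK e h' (f ≫ x) := tr_nat e _ _ f x

theorem trK_act {Z : Over X} (h : InK Z) (g : Z ⟶ G) (x : Z ⟶ P) :
    trK e h (lift g x ≫ a.act) = lift g (trK e h x) ≫ b.act := tr_act e _ g x

/-- `m` compares the two tautological points. -/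
def Solves {Y : Over X} (y : Y ⟶ P ⊗ Q) (m : Y ⟶ G) : Prop :=
  ∀ (Z : Over X) (h : InK Z) (z : Z ⟶ Y),
    lift (z ≫ m) (z ≫ y ≫ snd P Q) ≫ b.act = trK e h (z ≫ y ≫ fst P Q)

theorem exists_solves (hX : Pi1.IsNormalScheme X) (ha : NonAbH1.IsPseudoTorsorSch a)
    (hb : NonAbH1.IsPseudoTorsorSch b) [IsFinite G.hom] [IsFinite (P ⊗ Q).hom] [Flat (P ⊗ Q).hom]
    [Surjective (P ⊗ Q).hom] (W : X.affineOpens) [Nonempty W.1] :
    ∃ m : Sp W Γ((P ⊗ Q).left, (P ⊗ Q).hom ⁻¹ᵁ W.1) ⟶ G, Solves e (toPt (AlgHom.id _ _)) m := by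
  let T := P ⊗ Q
  let A := Γ(X, W.1)
  let R := Γ(T.left, T.hom ⁻¹ᵁ W.1)
  let K := X.functionField
  haveI : IsIntegrallyClosed A := (S9821.result X).1 hX W.1 W.2
  haveI : IsFractionRing A K := functionField_isFractionRing_of_isAffineOpen X W.1 W.2
  haveI : Module.Finite A R := IsFinite.finite_app (f := T.hom) W.1 W.2
  haveI : Module.Flat A R := by
    have h := HasRingHomProperty.appLE @Flat T.hom inferInstance ⟨W.1, W.2⟩ ⟨_, W.2.preimage T.hom⟩ le_rfl
    rw [← Scheme.Hom.app_eq_appLE] at h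
    exact h
  haveI : Nonempty (T.hom ⁻¹ᵁ W.1) := by
    obtain ⟨⟨x, hx⟩⟩ := (inferInstance : Nonempty W.1)
    obtain ⟨y, hy⟩ := T.hom.surjective x
    exact ⟨⟨y, by show T.hom y ∈ W.1; rwa [hy]⟩⟩
  haveI : Nontrivial R := Scheme.component_nontrivial T.left (T.hom ⁻¹ᵁ W.1)
  let t : Sp W R ⟶ T := toPt (AlgHom.id _ _)
  let il := spMap (W := W) (C := R) (Algebra.TensorProduct.includeLeft : R →ₐ[A] R ⊗[A] K)
  let E := R ⊗[A] K
  have hE : InK (Sp W E) := inK_sp W Algebra.TensorProduct.includeRight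
  have hE2 : InK (Sp W (R ⊗[A] E)) :=
    inK_sp W ((Algebra.TensorProduct.includeRight : E →ₐ[A] R ⊗[A] E).comp Algebra.TensorProduct.includeRight)
  obtain ⟨g, hg⟩ := SchTorsor.exists_div hb (trK e hE (il ≫ t ≫ fst P Q)) (il ≫ t ≫ snd P Q)
  obtain ⟨u, hu⟩ := SchTorsor.exists_div ha (fst T T ≫ fst P Q) (snd T T ≫ fst P Q)
  obtain ⟨v, hv⟩ := SchTorsor.exists_div hb (fst T T ≫ snd P Q) (snd T T ≫ snd P Q)
  obtain ⟨m, hm⟩ := exists_extend W K R t g u v (by
    have h1 : spMap (left13 A K R) ≫ il = spMap (Algebra.TensorProduct.includeLeft : R →ₐ[A] R ⊗[A] E) := by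
      rw [← spMap_comp]
      congr 1
    let a₁ := spMap (W := W) (Algebra.TensorProduct.includeLeft : R →ₐ[A] R ⊗[A] E) ≫ t
    let i₂ := spMap (W := W) (Algebra.TensorProduct.includeRight : E →ₐ[A] R ⊗[A] E)
    let a₂ := i₂ ≫ il ≫ t
    let u' := lift a₁ a₂ ≫ u
    let v' := lift a₁ a₂ ≫ v
    have hu' : lift u' (a₂ ≫ fst P Q) ≫ a.act = a₁ ≫ fst P Q := by
      have := congrArg (lift a₁ a₂ ≫ ·) hu
      simpa [comp_lift_assoc, u'] using this
    have hv' : lift v' (a₂ ≫ snd P Q) ≫ b.act = a₁ ≫ snd P Q := by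
      have := congrArg (lift a₁ a₂ ≫ ·) hv
      simpa [comp_lift_assoc, v'] using this
    have eg : lift (spMap (left13 A K R) ≫ g) (a₁ ≫ snd P Q) ≫ b.act = trK e hE2 (a₁ ≫ fst P Q) := by
      have := congrArg (spMap (left13 A K R) ≫ ·) hg
      rw [trK_nat e hE hE2] at this
      simpa [comp_lift_assoc, reassoc_of% h1, a₁] using this
    have eg2 : lift (i₂ ≫ g) (a₂ ≫ snd P Q) ≫ b.act = trK e hE2 (a₂ ≫ fst P Q) := by
      have := congrArg (i₂ ≫ ·) hg
      rw [trK_nat e hE hE2] at this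
      simpa [comp_lift_assoc, a₂] using this
    rw [← hu', trK_act, ← eg2, ← hv', ← SchTorsor.act_assoc, ← SchTorsor.act_assoc] at eg
    exact eq_mul_inv_of_mul_eq (SchTorsor.act_free hb eg))
  refine ⟨m, fun Z h z => ?_⟩
  obtain ⟨z', hz'⟩ := exists_factor W h z
  subst hz'
  have := congrArg (z' ≫ ·) hg
  rw [trK_nat e hE h] at this
  rw [← hm] at this
  simp only [comp_lift_assoc, Category.assoc] at this ⊢
  exact this

theorem Solves.restrict {Y Y' : Over X} {y : Y ⟶ P ⊗ Q} {m : Y ⟶ G} (h : Solves e y m) (f : Y' ⟶ Y) :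
    Solves e (f ≫ y) (f ≫ m) := fun Z hZ z => by
  have := h Z hZ (z ≫ f)
  simpa only [Category.assoc] using this

theorem Solves.unique (hb : NonAbH1.IsPseudoTorsorSch b) [IsSeparated G.hom] {Y : Over X} [Flat Y.hom]
    {y : Y ⟶ P ⊗ Q} {m m' : Y ⟶ G} (h : Solves e y m) (h' : Solves e y m') : m = m' :=
  hom_ext_gen (SchTorsor.act_free hb ((h _ (inK_gen Y) (genι Y)).trans (h' _ (inK_gen Y) (genι Y)).symm))

theorem exists_solves_global (hX : Pi1.IsNormalScheme X) (ha : NonAbH1.IsPseudoTorsorSch a)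
    (hb : NonAbH1.IsPseudoTorsorSch b) [IsFinite G.hom] [IsFinite (P ⊗ Q).hom] [Flat (P ⊗ Q).hom]
    [Surjective (P ⊗ Q).hom] :
    ∃ m : P ⊗ Q ⟶ G, Solves e (𝟙 _) m := by
  let T := P ⊗ Q
  let ι' := {W : X.affineOpens // Nonempty W.1}
  let O : ι' → Over X := fun W => Sp W.1 Γ(T.left, T.hom ⁻¹ᵁ W.1.1)
  let c : ∀ W : ι', O W ⟶ T := fun W => toPt (AlgHom.id _ _)
  have hc : ∀ W : ι', (c W).left = (W.1.2.preimage T.hom).fromSpec := fun W => by
    change Spec.map (CommRingCat.ofHom (RingHom.id _)) ≫ _ = _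
    rw [CommRingCat.ofHom_id, Spec.map_id]
    exact Category.id_comp _
  haveI : ∀ W : ι', IsOpenImmersion (c W).left := fun W => by rw [hc]; infer_instance
  have hex : ∀ W : ι', ∃ m : O W ⟶ G, Solves e (c W) m := fun W => by
    haveI := W.2
    exact exists_solves e hX ha hb W.1
  choose m hm using hex
  have hcov : ∀ x : T.left, ∃ W : ι', x ∈ Set.range (c W).left := fun x => by
    obtain ⟨_, ⟨V, hV, rfl⟩, hx, -⟩ :=
      X.isBasis_affineOpens.exists_subset_of_mem_open (Set.mem_univ (T.hom x)) isOpen_univ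
    refine ⟨⟨⟨V, hV⟩, ⟨⟨T.hom x, hx⟩⟩⟩, ?_⟩
    rw [hc]
    exact (hV.preimage T.hom).range_fromSpec.ge hx
  choose idx hidx using hcov
  let 𝒰 : T.left.OpenCover :=
    { I₀ := T.left
      X := fun x => (O (idx x)).left
      f := fun x => (c (idx x)).left
      mem₀ := by
        rw [Scheme.ofArrows_mem_precoverage_iff]
        exact ⟨fun x => ⟨x, hidx x⟩, fun x => inferInstance⟩ }
  have hcompat : ∀ x x', pullback.fst (𝒰.f x) (𝒰.f x') ≫ (m (idx x)).left =
      pullback.snd (𝒰.f x) (𝒰.f x') ≫ (m (idx x')).left := fun x x' => by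
    let Y : Over X := Over.mk ((pullback.fst (𝒰.f x) (𝒰.f x') ≫ 𝒰.f x) ≫ T.hom)
    haveI : Flat Y.hom := inferInstanceAs (Flat ((pullback.fst (𝒰.f x) (𝒰.f x') ≫ 𝒰.f x) ≫ T.hom))
    let p₁ : Y ⟶ O (idx x) := Over.homMk (pullback.fst (𝒰.f x) (𝒰.f x')) (by
      rw [← Over.w (c (idx x))]; exact (Category.assoc _ _ _).symm)
    let p₂ : Y ⟶ O (idx x') := Over.homMk (pullback.snd (𝒰.f x) (𝒰.f x')) (by
      rw [← Over.w (c (idx x'))]
      exact (Category.assoc _ _ _).symm.trans (congrArg (· ≫ T.hom) pullback.condition.symm))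
    have hp : p₁ ≫ c (idx x) = p₂ ≫ c (idx x') := Over.OverMorphism.ext pullback.condition
    exact congrArg CommaMorphism.left (Solves.unique e hb ((hm (idx x)).restrict e p₁)
      (hp ▸ (hm (idx x')).restrict e p₂))
  let M := 𝒰.glueMorphisms (fun x => (m (idx x)).left) hcompat
  have hMg : ∀ x, (c (idx x)).left ≫ M = (m (idx x)).left := fun x =>
    Scheme.Cover.ι_glueMorphisms 𝒰 _ hcompat x
  let m₀ : T ⟶ G := Over.homMk M (𝒰.hom_ext _ _ fun x => by
    change (c (idx x)).left ≫ M ≫ G.hom = (c (idx x)).left ≫ T.hom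
    rw [reassoc_of% hMg x, Over.w (m (idx x)), Over.w (c (idx x))])
  refine ⟨m₀, fun Z h z => Over.OverMorphism.ext (Scheme.Cover.hom_ext (𝒰.pullback₁ z.left) _ _ fun x => ?_)⟩
  let Z' : Over X := Over.mk (pullback.fst z.left (𝒰.f x) ≫ Z.hom)
  let zz : Z' ⟶ Z := Over.homMk (pullback.fst z.left (𝒰.f x)) rfl
  let z' : Z' ⟶ O (idx x) := Over.homMk (pullback.snd z.left (𝒰.f x)) (by
    change pullback.snd z.left (𝒰.f x) ≫ (O (idx x)).hom = pullback.fst z.left (𝒰.f x) ≫ Z.hom
    rw [← Over.w (c (idx x)), ← Over.w z, ← Category.assoc, ← Category.assoc]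
    exact congrArg (· ≫ T.hom) pullback.condition.symm)
  have hz' : zz ≫ z = z' ≫ c (idx x) := Over.OverMorphism.ext pullback.condition
  have hm₀ : c (idx x) ≫ m₀ = m (idx x) := Over.OverMorphism.ext (hMg x)
  have key : zz ≫ (lift (z ≫ m₀) (z ≫ 𝟙 T ≫ snd P Q) ≫ b.act) = zz ≫ trK e h (z ≫ 𝟙 T ≫ fst P Q) := by
    have hs := hm (idx x) Z' (h.of_hom zz) z'
    rw [trK_nat e h (h.of_hom zz)]
    simp only [comp_lift_assoc, Category.id_comp, reassoc_of% hz', hm₀]
    exact hs
  exact congrArg CommaMorphism.left key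

include e in
theorem exists_hom (hX : Pi1.IsNormalScheme X) (ha : NonAbH1.IsTorsorFor Scheme.fpqcPrecoverage a)
    (hb : NonAbH1.IsTorsorFor Scheme.fpqcPrecoverage b) [IsFinite G.hom] [Flat G.hom] :
    ∃ f : P ⟶ Q, a.act ≫ f = (G ◁ f) ≫ b.act := by
  obtain ⟨hP, hPf, hPs⟩ := finite_flat_torsor ha
  obtain ⟨hQ, hQf, hQs⟩ := finite_flat_torsor hb
  let T := P ⊗ Q
  let p := fst P Q
  let q := snd P Q
  haveI : IsFinite p.left := inferInstanceAs (IsFinite (pullback.fst P.hom Q.hom))
  haveI : Flat p.left := inferInstanceAs (Flat (pullback.fst P.hom Q.hom))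
  haveI : Surjective p.left := inferInstanceAs (Surjective (pullback.fst P.hom Q.hom))
  haveI : IsFinite T.hom := by rw [← Over.w p]; infer_instance
  haveI : Flat T.hom := by rw [← Over.w p]; infer_instance
  haveI : Surjective T.hom := by rw [← Over.w p]; infer_instance
  obtain ⟨m, hm⟩ := exists_solves_global e hX ha.1 hb.1
  let F := lift m q ≫ b.act
  have hF : ∀ (Z : Over X) (h : InK Z) (z : Z ⟶ T), z ≫ F = trK e h (z ≫ p) := fun Z h z => by
    have := hm Z h z
    simpa [comp_lift_assoc, F, p, q] using this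
  let D : Over X := Over.mk (pullback.fst p.left p.left ≫ T.hom)
  haveI : Flat D.hom := inferInstanceAs (Flat (pullback.fst p.left p.left ≫ T.hom))
  let d₁ : D ⟶ T := Over.homMk (pullback.fst p.left p.left) rfl
  let d₂ : D ⟶ T := Over.homMk (pullback.snd p.left p.left) (by
    change pullback.snd p.left p.left ≫ T.hom = pullback.fst p.left p.left ≫ T.hom
    rw [← Over.w p, ← Category.assoc, ← Category.assoc, pullback.condition])
  have hd : d₁ ≫ F = d₂ ≫ F := by
    refine hom_ext_gen ?_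
    have hdp : d₁ ≫ p = d₂ ≫ p := Over.OverMorphism.ext pullback.condition
    refine (Category.assoc _ _ _).symm.trans ((hF _ (inK_gen D) _).trans (Eq.trans ?_
      ((Category.assoc _ _ _).symm.trans (hF _ (inK_gen D) (genι D ≫ d₂))).symm))
    congr 1
    simp only [Category.assoc, hdp]
  have hcond : ∀ {Z : Scheme.{u}} (g₁ g₂ : Z ⟶ T.left), g₁ ≫ p.left = g₂ ≫ p.left →
      g₁ ≫ F.left = g₂ ≫ F.left := fun g₁ g₂ h => by
    have := congrArg (pullback.lift g₁ g₂ h ≫ ·) (congrArg CommaMorphism.left hd)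
    simpa [d₁, d₂, ← Category.assoc, pullback.lift_fst, pullback.lift_snd] using this
  let f₀ := EffectiveEpi.desc p.left F.left hcond
  have hf₀ : p.left ≫ f₀ = F.left := EffectiveEpi.fac p.left F.left hcond
  let f : P ⟶ Q := Over.homMk f₀ (by
    rw [← cancel_epi p.left, ← Category.assoc, hf₀, Over.w F, Over.w p])
  have hf : p ≫ f = F := Over.OverMorphism.ext hf₀
  refine ⟨f, ?_⟩
  haveI : Flat (G ⊗ T).hom := by
    rw [← Over.w (snd G T)]
    haveI : Flat (snd G T).left := inferInstanceAs (Flat (pullback.snd G.hom T.hom))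
    infer_instance
  haveI : Epi (G ◁ p).left := by
    have hsq : IsPullback (G ◁ p).left (snd G T).left (snd G P).left p.left :=
      IsPullback.of_right (h₁₂ := (fst G P).left) (h₂₂ := P.hom) (v₁₃ := G.hom)
        (by
          have e1 : (G ◁ p).left ≫ (fst G P).left = (fst G T).left :=
            congrArg CommaMorphism.left (whiskerLeft_fst G p)
          rw [e1, Over.w p]
          exact IsPullback.of_hasPullback G.hom T.hom)
        (congrArg CommaMorphism.left (whiskerLeft_snd G p))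
        (IsPullback.of_hasPullback G.hom P.hom)
    haveI : Flat (G ◁ p).left := MorphismProperty.of_isPullback hsq.flip inferInstance
    haveI : Surjective (G ◁ p).left := MorphismProperty.of_isPullback hsq.flip inferInstance
    haveI : QuasiCompact (G ◁ p).left := MorphismProperty.of_isPullback hsq.flip inferInstance
    infer_instance
  have key : (G ◁ p) ≫ a.act ≫ f = (G ◁ p) ≫ (G ◁ f) ≫ b.act := by
    refine hom_ext_gen ?_
    let Z := gen (G ⊗ T)
    let z := genι (G ⊗ T)
    have hZ : InK Z := inK_gen _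
    let g := z ≫ fst G T
    let t := z ≫ snd G T
    have e2 : z ≫ (G ◁ p) ≫ (G ◁ f) ≫ b.act = lift g (t ≫ F) ≫ b.act := by
      rw [← hf, ← MonoidalCategory.whiskerLeft_comp_assoc, ← Category.assoc]
      congr 1
      apply CartesianMonoidalCategory.hom_ext <;> simp [g, t]
    let t' : Z ⟶ T := lift (lift g (t ≫ p) ≫ a.act) (t ≫ q)
    have e1 : z ≫ (G ◁ p) ≫ a.act ≫ f = t' ≫ F := by
      rw [← hf, ← Category.assoc, ← Category.assoc]
      have ep : t' ≫ p = (z ≫ G ◁ p) ≫ a.act := by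
        simp only [t', p, lift_fst]
        congr 1
        apply CartesianMonoidalCategory.hom_ext <;> simp [g, t, p]
      rw [reassoc_of% ep]
      simp only [Category.assoc]
    rw [e1, e2, hF Z hZ t', hF Z hZ t, ← trK_act]
    simp only [t', p, lift_fst]
  exact Over.OverMorphism.ext ((cancel_epi (G ◁ p).left).1 (congrArg CommaMorphism.left key))

end Main

end Groth.Agent.FinTorsor
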